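import Groth.Prelude.Def_Found
import Groth.Prelude.Def_Curv2
import Groth.Agent.S0002
import Groth.Agent.QCoh.Support
import Groth.Agent.CurveCohLib.Nonspecial
import Groth.Agent.QsDescend.Scheme
import Groth.Agent.RegLoc6.Normal
import Groth.Agent.RegLoc6.Descent
import Groth.Agent.FlatMisc.GenFlat

/-!
# An affine domain with a regular alteration is N-1 and has a nonempty open regular locus
-/

universe u

open CategoryTheory CategoryTheory.Limits AlgebraicGeometry TopologicalSpace Opposite

set_option autoImplicit false
set_option linter.style.haveILetI false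
set_option backward.isDefEq.respectTransparency false
set_option backward.isDefEq.respectTransparency.types false

namespace Groth.Agent.ResRes

variable {A : Type u} [CommRing A] [IsDomain A] [IsNoetherianRing A] {X : Scheme.{u}}
  (f : X ⟶ Spec (CommRingCat.of A))

/-- The structure map on global functions. -/
noncomputable def gam : A →+* Γ(X, ⊤) := (f.appTop).hom.comp (Scheme.ΓSpecIso (CommRingCat.of A)).inv.hom

theorem finite_gamma [IsProper f] :
    letI := (gam f).toAlgebra
    Module.Finite A Γ(X, ⊤) := by
  letI : X.Over (Spec (CommRingCat.of A)) := ⟨f⟩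
  haveI : IsProper (X ↘ Spec (CommRingCat.of A)) := ‹IsProper f›
  haveI : IsLocallyNoetherian X := LocallyOfFiniteType.isLocallyNoetherian f
  letI := (gam f).toAlgebra
  haveI := S0002.result A X (Coh.structureModule X) QCoh.isCoh_structureModule' 0
  let e : Coh.HH X (Coh.structureModule X) 0 ≃ₗ[A] Γ(X, ⊤) :=
    { (Sheaf.H.equiv₀ (Coh.toAb (Coh.structureModule X)) isTerminalTop :
        Coh.HH X (Coh.structureModule X) 0 ≃+ _) with
      map_smul' := fun a t =>
        (Sheaf.H.equiv₀_naturality isTerminalTop
          (Coh.smulAb (Coh.structureModule X) (Coh.toGlobal f a)) t).symm.trans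
          (by
            show (Coh.resTop X (op ⊤) (Coh.toGlobal f a)) * _ = _
            rw [show Coh.resTop X (op ⊤) (Coh.toGlobal f a) = Coh.toGlobal f a from by
              show (X.ringCatSheaf.obj.map (homOfLE le_top).op).hom _ = _
              rw [show (homOfLE (le_top : (⊤ : X.Opens) ≤ ⊤)).op = 𝟙 _ from Subsingleton.elim _ _,
                X.ringCatSheaf.obj.map_id]
              rfl]
            rfl) }
  exact Module.Finite.equiv e

theorem basicOpen_toGlobal (a : A) :
    X.basicOpen (gam f a) = f ⁻¹ᵁ PrimeSpectrum.basicOpen a := by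
  rw [← basicOpen_eq_of_affine (R := CommRingCat.of A) a, Scheme.preimage_basicOpen]
  rfl

theorem toGlobal_germ_injective [IsIntegral X] [IsDominant f] :
    Function.Injective
      ((X.presheaf.germ ⊤ (genericPoint X) trivial).hom.comp (gam f)) := by
  rw [injective_iff_map_eq_zero]
  intro a ha
  by_contra h
  have h0 : (gam f a) = 0 := by
    refine germ_injective_of_isIntegral (X := X) (U := ⊤) (genericPoint X) trivial ?_
    rw [map_zero]
    exact ha
  let D : (Spec (CommRingCat.of A)).Opens := PrimeSpectrum.basicOpen a
  have hne : (D : Set (Spec (CommRingCat.of A))).Nonempty :=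
    ⟨(⟨⊥, Ideal.isPrime_bot⟩ : PrimeSpectrum A), fun hm => h (by simpa using hm)⟩
  obtain ⟨x, hx⟩ := f.denseRange.exists_mem_open D.isOpen hne
  have hx' : x ∈ X.basicOpen (gam f a) := by
    rw [basicOpen_toGlobal f a]; exact hx
  rw [h0, Scheme.basicOpen_zero] at hx'
  exact hx'

theorem isN1 [IsProper f] [IsIntegral X] [IsDominant f]
    (hreg : ∀ x : X, IsRegularLocalRing (X.presheaf.stalk x)) : CAlg.IsN1 A := by
  letI := (gam f).toAlgebra
  haveI : Module.Finite A Γ(X, ⊤) := finite_gamma f
  let g : Γ(X, ⊤) →+* X.functionField := (X.presheaf.germ ⊤ (genericPoint X) trivial).hom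
  let θ : A →+* X.functionField := g.comp (gam f)
  have hθ : Function.Injective θ := toGlobal_germ_injective f
  let ι : FractionRing A →+* X.functionField := IsFractionRing.lift hθ
  have hι : ∀ a : A, ι (algebraMap A (FractionRing A) a) = θ a := IsFractionRing.lift_algebraMap hθ
  letI : Algebra A X.functionField := θ.toAlgebra
  let G : Γ(X, ⊤) →ₗ[A] X.functionField :=
    { toFun := g
      map_add' := map_add g
      map_smul' := fun a s => by
        rw [RingHom.id_apply, Algebra.smul_def, Algebra.smul_def, map_mul]
        rfl }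
  let J : FractionRing A →ₗ[A] X.functionField :=
    { toFun := ι
      map_add' := map_add ι
      map_smul' := fun a s => by
        rw [RingHom.id_apply, Algebra.smul_def, Algebra.smul_def, map_mul, hι]
        rfl }
  have hJ : Function.Injective J := ι.injective
  let L : integralClosure A (FractionRing A) →ₗ[A] X.functionField :=
    J.comp (integralClosure A (FractionRing A)).val.toLinearMap
  have hL : Function.Injective L := hJ.comp Subtype.val_injective
  have hle : LinearMap.range L ≤ LinearMap.range G := by
    rintro _ ⟨⟨z, hz⟩, rfl⟩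
    obtain ⟨P, hPm, hP0⟩ := hz
    obtain ⟨s, hs⟩ := QsDescend.exists_section_of_forall (X := X) ⊤ trivial (ι z) fun x _ => by
      haveI := hreg x
      haveI := RegLoc6.isIntegrallyClosed_of_isRegularLocalRing (X.presheaf.stalk x)
      let c : A →+* X.presheaf.stalk x := (X.presheaf.germ ⊤ x trivial).hom.comp (gam f)
      have hc : (algebraMap (X.presheaf.stalk x) X.functionField).comp c = θ := by
        ext t
        haveI : Nonempty (⊤ : X.Opens) := ⟨⟨x, trivial⟩⟩
        show algebraMap (X.presheaf.stalk x) X.functionField
          (X.presheaf.germ ⊤ x trivial (gam f t)) = _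
        rw [X.algebraMap_germ_eq_germToFunctionField (U := ⊤) trivial]
        rfl
      refine (IsIntegrallyClosed.isIntegral_iff (x := ι z)).1 ⟨P.map c, hPm.map _, ?_⟩
      rw [Polynomial.eval₂_map, hc]
      have h1 := congrArg ι hP0
      rw [map_zero, Polynomial.hom_eval₂] at h1
      rw [← h1]
      congr 1
      ext t
      exact (hι t).symm
    exact ⟨s, hs⟩
  haveI : Module.Finite A (LinearMap.range G) := Module.Finite.range G
  haveI : IsNoetherian A (LinearMap.range G) := isNoetherian_of_isNoetherianRing_of_finite A _
  exact Module.Finite.of_injective ((Submodule.inclusion hle).comp (LinearEquiv.ofInjective L hL).toLinearMap)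
    ((Submodule.inclusion_injective hle).comp (LinearEquiv.ofInjective L hL).injective)

/-- The integral closure maps into the global functions of a regular alteration. -/
theorem exists_algHom_integralClosure [IsIntegral X] [IsDominant f]
    (hreg : ∀ x : X, IsRegularLocalRing (X.presheaf.stalk x)) :
    letI := (gam f).toAlgebra
    ∃ β : integralClosure A (FractionRing A) →ₐ[A] Γ(X, ⊤), Function.Injective β := by
  letI := (gam f).toAlgebra
  let g : Γ(X, ⊤) →+* X.functionField := (X.presheaf.germ ⊤ (genericPoint X) trivial).hom
  have hg : Function.Injective g := germ_injective_of_isIntegral (X := X) (U := ⊤) (genericPoint X) trivial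
  let θ : A →+* X.functionField := g.comp (gam f)
  have hθ : Function.Injective θ := toGlobal_germ_injective f
  let ι : FractionRing A →+* X.functionField := IsFractionRing.lift hθ
  have hι : ∀ a : A, ι (algebraMap A (FractionRing A) a) = θ a := IsFractionRing.lift_algebraMap hθ
  have hex : ∀ z : integralClosure A (FractionRing A), ∃ s, g s = ι z := by
    rintro ⟨z, hz⟩
    obtain ⟨P, hPm, hP0⟩ := hz
    refine QsDescend.exists_section_of_forall (X := X) ⊤ trivial (ι z) fun x _ => ?_
    haveI := hreg x
    haveI := RegLoc6.isIntegrallyClosed_of_isRegularLocalRing (X.presheaf.stalk x)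
    let c : A →+* X.presheaf.stalk x := (X.presheaf.germ ⊤ x trivial).hom.comp (gam f)
    have hc : (algebraMap (X.presheaf.stalk x) X.functionField).comp c = θ := by
      ext t
      haveI : Nonempty (⊤ : X.Opens) := ⟨⟨x, trivial⟩⟩
      show algebraMap (X.presheaf.stalk x) X.functionField (X.presheaf.germ ⊤ x trivial (gam f t)) = _
      rw [X.algebraMap_germ_eq_germToFunctionField (U := ⊤) trivial]
      rfl
    refine (IsIntegrallyClosed.isIntegral_iff (x := ι z)).1 ⟨P.map c, hPm.map _, ?_⟩
    rw [Polynomial.eval₂_map, hc]
    have h1 := congrArg ι hP0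
    rw [map_zero, Polynomial.hom_eval₂] at h1
    rw [← h1]
    congr 1
    ext t
    exact (hι t).symm
  choose s hs using hex
  refine ⟨{ toFun := s, map_one' := hg ?_, map_mul' := fun a b => hg ?_, map_zero' := hg ?_,
            map_add' := fun a b => hg ?_, commutes' := fun a => hg ?_ }, fun a b h => Subtype.ext (ι.injective ?_)⟩
  · rw [hs, map_one]; exact map_one ι
  · rw [hs, map_mul g, hs, hs]; exact map_mul ι _ _
  · rw [hs, map_zero]; exact map_zero ι
  · rw [hs, map_add g, hs, hs]; exact map_add ι _ _
  · show g (s _) = g (gam f a)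
    rw [hs]; exact hι a
  · rw [← hs, ← hs]; exact congrArg g h

theorem exists_regular_open [IsProper f] [IsDominant f]
    (hreg : ∀ x : X, IsRegularLocalRing (X.presheaf.stalk x)) :
    ∃ U : (Spec (CommRingCat.of A)).Opens, (U : Set (Spec (CommRingCat.of A))).Nonempty ∧
      ∀ y ∈ U, IsRegularLocalRing ((Spec (CommRingCat.of A)).presheaf.stalk y) := by
  obtain ⟨U, hU, hflat, -⟩ := FlatMisc.exists_dense_flat f
  refine ⟨U, hU.nonempty, fun y hy => ?_⟩
  have hsurj : Set.range f = Set.univ := by
    rw [← f.isClosedMap.isClosed_range.closure_eq, f.denseRange.closure_eq]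
  obtain ⟨x, rfl⟩ : y ∈ Set.range f := hsurj ▸ Set.mem_univ y
  haveI := hreg x
  haveI := hflat
  have hst : (f.stalkMap x).hom.Flat :=
    ((RingHom.Flat.respectsIso.arrow_mk_iso_iff (morphismRestrictStalkMap f U ⟨x, hy⟩))).1
      ((Flat.iff_flat_stalkMap _).1 hflat ⟨x, hy⟩)
  letI := (f.stalkMap x).hom.toAlgebra
  haveI : IsLocalHom (algebraMap ((Spec (CommRingCat.of A)).presheaf.stalk (f x)) (X.presheaf.stalk x)) :=
    inferInstanceAs (IsLocalHom (f.stalkMap x).hom)
  haveI : Module.Flat ((Spec (CommRingCat.of A)).presheaf.stalk (f x)) (X.presheaf.stalk x) := hst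
  exact RegLoc6.isRegularLocalRing_of_flat (B := X.presheaf.stalk x)

end Groth.Agent.ResRes
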