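import Groth.Agent.CompleteNagata.Unramified
import Groth.Agent.CAlgOdd.NagataFT.Poly
import Groth.Agent.N12Aux.Nagata
import Mathlib.RingTheory.Localization.BaseChange
import Mathlib.RingTheory.Flat.FaithfullyFlat.Basic

/-!
# Finite normalization of domains of finite type with reduced completed function field
-/

namespace Groth.Agent.ResRes

universe u

open IsLocalRing TensorProduct

set_option linter.style.haveILetI false

/-- Integral closures in localizations of reduced Nagata rings are finite. -/
theorem finite_integralClosure_localization (B' Z : Type u) [CommRing B'] [IsReduced B'] (hN' : CAlg.IsNagata B')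
    [CommRing Z] [Algebra B' Z] (N : Submonoid B') (hN : N ≤ nonZeroDivisors B')
    [IsLocalization N Z] : Module.Finite B' (integralClosure B' Z) := by
  classical
  haveI := hN'.1
  haveI : Finite (minimalPrimes B') := (minimalPrimes.finite_of_isNoetherianRing B').to_subtype
  haveI : ∀ P : minimalPrimes B', (P.1).IsPrime := fun P => P.2.1.1
  let σ : ∀ P : minimalPrimes B', B' →ₐ[B'] FractionRing (B' ⧸ P.1) := fun P => Algebra.ofId _ _
  have hker : ∀ (P : minimalPrimes B') (w : B'), σ P w = 0 → w ∈ P.1 := fun P w h => by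
    have h1 : algebraMap (B' ⧸ P.1) (FractionRing (B' ⧸ P.1)) (Ideal.Quotient.mk P.1 w) = 0 := h
    exact Ideal.Quotient.eq_zero_iff_mem.mp
      (IsFractionRing.injective (B' ⧸ P.1) (FractionRing (B' ⧸ P.1)) (h1.trans (map_zero _).symm))
  have hunit : ∀ (P : minimalPrimes B') (s : N), IsUnit (σ P s) := fun P s =>
    isUnit_iff_ne_zero.mpr fun h =>
      Set.disjoint_left.mp (Ideal.disjoint_nonZeroDivisors_of_mem_minimalPrimes P.2) (hker P _ h) (hN s.2)
  let Φ : ∀ P : minimalPrimes B', Z →ₐ[B'] FractionRing (B' ⧸ P.1) := fun P =>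
    IsLocalization.liftAlgHom (M := N) (hunit P)
  have hΦ : ∀ z : Z, (∀ P, Φ P z = 0) → z = 0 := fun z hz => by
    obtain ⟨w, s, rfl⟩ := IsLocalization.exists_mk'_eq N z
    have hw : w = 0 := by
      refine IsReduced.eq_zero _ ((mem_nilradical.mp ?_) : IsNilpotent w)
      rw [nilradical, Ideal.zero_eq_bot, ← Ideal.sInf_minimalPrimes, Ideal.mem_sInf]
      intro P hP
      refine hker ⟨P, hP⟩ w ?_
      have h := hz ⟨P, hP⟩
      have h3 := congrArg (Φ ⟨P, hP⟩) (IsLocalization.mk'_spec Z w s)
      rw [map_mul, h, zero_mul] at h3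
      exact ((IsLocalization.lift_eq (M := N) (hunit ⟨P, hP⟩) w).symm.trans h3.symm)
    rw [hw, IsLocalization.mk'_zero]
  haveI : ∀ P : minimalPrimes B', Module.Finite B' (integralClosure B' (FractionRing (B' ⧸ P.1))) := fun P =>
    N12Aux.finite_normalization_of_finite hN' (B' ⧸ P.1)
  let k : integralClosure B' Z →ₗ[B'] ((P : minimalPrimes B') → integralClosure B' (FractionRing (B' ⧸ P.1))) :=
    LinearMap.pi fun P => (((Φ P).comp (integralClosure B' Z).val).codRestrict
      (integralClosure B' (FractionRing (B' ⧸ P.1))) fun z => (z.2 : IsIntegral B' (z : Z)).map (Φ P)).toLinearMap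
  exact Module.Finite.of_injective k fun a b h => Subtype.ext (sub_eq_zero.mp (hΦ _ fun P => by
    rw [map_sub, sub_eq_zero]
    exact congrArg Subtype.val (congrFun h P)))

/-- Finite normalization of a domain of finite type over a Noetherian local ring whose function field
has reduced completion. -/
theorem finite_integralClosure_of_reduced_cpl (A B L : Type u) [CommRing A] [IsLocalRing A] [IsNoetherianRing A]
    [CommRing B] [IsDomain B] [Algebra A B] [Algebra.FiniteType A B]
    [Field L] [Algebra B L] [IsFractionRing B L] [Algebra A L] [IsScalarTower A B L]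
    (hred : IsReduced (L ⊗[A] EGA4.Cpl A)) :
    Module.Finite B (integralClosure B L) := by
  let Ah := EGA4.Cpl A
  haveI := FlatLoc6.isLocalRing_cpl A
  haveI := FlatLoc6.isNoetherianRing_cpl A
  haveI := FlatLoc6.faithfullyFlat_cpl A
  haveI : IsAdicComplete (maximalIdeal Ah) Ah := by
    rw [AdicCompletion.maximalIdeal_eq_map_of_fg (IsNoetherian.noetherian (maximalIdeal A))]
    exact AdicCompletion.isAdicComplete_self _ (IsNoetherian.noetherian _)
  have hAB : CAlg.IsNagata (Ah ⊗[A] B) :=
    CAlgOdd.NagataFT.isNagata_of_finiteType (CompleteNagata.isNagata_of_complete Ah) _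
  let B' := B ⊗[A] Ah
  have hB' : CAlg.IsNagata B' :=
    CAlgOdd.NagataFT.isNagata_of_ringEquiv (Algebra.TensorProduct.comm A Ah B).toRingEquiv hAB
  let Z : Type u := B' ⊗[B] L
  letI : CommRing Z := inferInstanceAs (CommRing (B' ⊗[B] L))
  letI : Algebra B' Z := inferInstanceAs (Algebra B' (B' ⊗[B] L))
  letI : Algebra B Z := inferInstanceAs (Algebra B (B' ⊗[B] L))
  let M : Submonoid B := nonZeroDivisors B
  haveI : IsLocalization (Algebra.algebraMapSubmonoid B' M) Z :=
    inferInstanceAs (IsLocalization (Algebra.algebraMapSubmonoid B' M) (B' ⊗[B] L))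
  have hinjZ : ∀ a b : B', algebraMap B' Z a = algebraMap B' Z b → a = b := by
    intro a b h
    exact Algebra.TensorProduct.includeLeft_injective (R := B) (S := B) (A := B') (B := L)
      (IsFractionRing.injective B L) h
  haveI hZ : IsReduced Z := by
    haveI := hred
    let e : Z ≃ₐ[B] L ⊗[A] Ah :=
      (Algebra.TensorProduct.comm B B' L).trans
        ((Algebra.TensorProduct.cancelBaseChange A B L L Ah).restrictScalars B)
    exact isReduced_of_injective e.toRingEquiv.toRingHom e.injective
  haveI : IsReduced B' := isReduced_of_injective (algebraMap B' Z) hinjZ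
  have hN : Algebra.algebraMapSubmonoid B' M ≤ nonZeroDivisors B' := fun s hs => by
    rw [mem_nonZeroDivisors_iff_right]
    intro z hz
    refine hinjZ z 0 ?_
    rw [map_zero]
    have h := congrArg (algebraMap B' Z) hz
    rw [map_mul, map_zero] at h
    exact ((IsLocalization.map_units Z (⟨s, hs⟩ : Algebra.algebraMapSubmonoid B' M)).mul_left_eq_zero).1 h
  haveI := finite_integralClosure_localization B' Z hB' (Algebra.algebraMapSubmonoid B' M) hN
  let C := integralClosure B L
  let j : B' ⊗[B] C →ₐ[B'] Z := Algebra.TensorProduct.map (AlgHom.id B' B') C.val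
  have hj : Function.Injective j :=
    Module.Flat.lTensor_preserves_injective_linearMap (M := B') C.val.toLinearMap Subtype.val_injective
  have hint : ∀ z, j z ∈ integralClosure B' Z := fun z => by
    induction z using TensorProduct.induction_on with
    | zero => rw [map_zero]; exact zero_mem _
    | tmul a c =>
      rw [show j (a ⊗ₜ[B] c) = algebraMap B' Z a * ((1 : B') ⊗ₜ[B] (c : L)) by
        show a ⊗ₜ[B] (c : L) = (a ⊗ₜ[B] (1 : L)) * ((1 : B') ⊗ₜ[B] (c : L))
        rw [Algebra.TensorProduct.tmul_mul_tmul, mul_one, one_mul]]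
      refine mul_mem (Subalgebra.algebraMap_mem _ a) ?_
      exact IsIntegral.tower_top (R := B) (A := B')
        ((c.2 : IsIntegral B (c : L)).map (Algebra.TensorProduct.includeRight (R := B) (A := B') (B := L)))
    | add u v hu hv => rw [map_add]; exact add_mem hu hv
  haveI := hB'.1
  haveI := isNoetherian_of_isNoetherianRing_of_finite B' (integralClosure B' Z)
  haveI : Module.Finite B' (B' ⊗[B] C) :=
    Module.Finite.of_injective (j.codRestrict (integralClosure B' Z) hint).toLinearMap fun a b h =>
      hj (congrArg Subtype.val h)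
  exact Module.Finite.of_finite_tensorProduct_of_faithfullyFlat B'

end Groth.Agent.ResRes
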