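import Groth.Agent.NormCurve.Delta
import Groth.Agent.NormCurve.Scheme
import Groth.Agent.NormCurve.Normal
import Groth.Agent.N12Aux.Basic
import Groth.Agent.FlatLoc6.SerreNormal
import Groth.Agent.PicGlue.AmpleDimOne
import Groth.Agent.ResRes.AlterN1

/-!
# Normalization of integral schemes with N-1 rings of sections
-/

open CategoryTheory CategoryTheory.Limits AlgebraicGeometry Opposite TopologicalSpace

set_option autoImplicit false
set_option backward.isDefEq.respectTransparency false
set_option backward.isDefEq.respectTransparency.types false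
set_option linter.style.haveILetI false

namespace Groth.Agent.ResRes

open NormCurve

universe u

variable (X : Scheme.{u}) [IsIntegral X]
  [QuasiCompact (X.fromSpecStalk (genericPoint X))] [QuasiSeparated (X.fromSpecStalk (genericPoint X))]

theorem isFinite_normalizationι (hN : ∀ (U : X.affineOpens), ((U : X.Opens) : Set X).Nonempty → ∀ [IsDomain Γ(X, (U : X.Opens))], CAlg.IsN1 Γ(X, (U : X.Opens))) :
    IsFinite (Curv2.normalizationι X) := by
  haveI : IsAffineHom (Curv2.normalizationι X) :=
    inferInstanceAs (IsAffineHom (X.fromSpecStalk (genericPoint X)).fromNormalization)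
  refine ⟨fun U hU => ?_⟩
  rcases (U : Set X).eq_empty_or_nonempty with he | hne
  · have e : U = ⊥ := Opens.ext he
    subst e
    haveI : Subsingleton Γ(Curv2.normalization X, Curv2.normalizationι X ⁻¹ᵁ ⊥) := by
      rw [Scheme.Hom.preimage_bot]; infer_instance
    exact RingHom.Finite.of_surjective _ fun z => ⟨0, Subsingleton.elim _ _⟩
  haveI : Nonempty (U : X.Opens) := hne.to_subtype
  let L := FractionRing Γ(X, U)
  obtain ⟨e, he⟩ := exists_normalizationEquiv X hU hne L
  haveI := N12Aux.finite_of_isN1 (hN ⟨U, hU⟩ hne) L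
  have h1 : (algebraMap Γ(X, U) (integralClosure Γ(X, U) L)).Finite := RingHom.finite_algebraMap.2 inferInstance
  have h2 : ((Curv2.normalizationι X).app U).hom =
      e.symm.toRingHom.comp (algebraMap Γ(X, U) (integralClosure Γ(X, U) L)) :=
    RingHom.ext fun a => by
      show _ = e.symm _
      rw [← he, e.symm_apply_apply]
  show ((Curv2.normalizationι X).app U).hom.Finite
  rw [h2]
  exact (RingHom.Finite.of_surjective _ e.symm.surjective).comp h1

/-- The normalization is an isomorphism over some dense open. -/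
theorem exists_isIso (hN : ∀ (U : X.affineOpens), ((U : X.Opens) : Set X).Nonempty → ∀ [IsDomain Γ(X, (U : X.Opens))], CAlg.IsN1 Γ(X, (U : X.Opens))) :
    ∃ U : X.Opens, Dense ((U : Set X)) ∧ IsIso (Curv2.normalizationι X ∣_ U) := by
  obtain ⟨_, ⟨U, hU, rfl⟩, hxU, -⟩ := X.isBasis_affineOpens.exists_subset_of_mem_open
    (Set.mem_univ (genericPoint X)) isOpen_univ
  have hne : (U : Set X).Nonempty := ⟨_, hxU⟩
  haveI : Nonempty (U : X.Opens) := hne.to_subtype
  let R := Γ(X, U)
  let L := FractionRing R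
  haveI := N12Aux.finite_of_isN1 (hN ⟨U, hU⟩ hne) L
  obtain ⟨S, hS⟩ := Module.Finite.fg_top (R := R) (M := integralClosure R L)
  obtain ⟨⟨f, hf⟩, hfS⟩ := IsLocalization.exist_integer_multiples (nonZeroDivisors R) S
    (fun z => (z : L))
  -- `f` clears all denominators
  have hall : ∀ z : integralClosure R L, ∃ r : R, algebraMap R L r = f • (z : L) := by
    intro z
    have hz : z ∈ Submodule.span R (S : Set (integralClosure R L)) := hS ▸ Submodule.mem_top
    induction hz using Submodule.span_induction with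
    | mem z hz => exact hfS z hz
    | zero => exact ⟨0, by simp⟩
    | add y z _ _ hy hz =>
      obtain ⟨r, hr⟩ := hy
      obtain ⟨r', hr'⟩ := hz
      exact ⟨r + r', by rw [map_add, hr, hr', ← smul_add]; rfl⟩
    | smul a z _ hz =>
      obtain ⟨r, hr⟩ := hz
      exact ⟨a * r, by rw [map_mul, hr, SetLike.val_smul, Algebra.smul_def, Algebra.smul_def, Algebra.smul_def]; ring⟩
  let V := X.basicOpen f
  have hV : IsAffineOpen V := hU.basicOpen f
  have hfne : f ≠ 0 := nonZeroDivisors.ne_zero hf
  have hgV : genericPoint X ∈ V := ((genericPoint_spec X).mem_open_set_iff V.isOpen).2 (by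
    rw [Set.univ_inter]
    by_contra h
    exact hfne ((AlgebraicGeometry.basicOpen_eq_bot_iff f).1 (Opens.ext (Set.not_nonempty_iff_eq_empty.1 h))))
  have hneV : (V : Set X).Nonempty := ⟨_, hgV⟩
  haveI : Nonempty (V : X.Opens) := hneV.to_subtype
  haveI := hU.isLocalization_basicOpen f
  refine ⟨V, V.isOpen.dense hneV, ?_⟩
  -- `Γ(X, V)` is integrally closed
  let ψ : Γ(X, V) →+* L := IsLocalization.Away.lift f (g := algebraMap R L)
    (IsUnit.mk0 _ (by rw [Ne, map_eq_zero_iff _ (IsFractionRing.injective R L)]; exact hfne))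
  letI := ψ.toAlgebra
  haveI : IsScalarTower R Γ(X, V) L := IsScalarTower.of_algebraMap_eq fun r =>
    (IsLocalization.Away.lift_eq f _ r).symm
  haveI : IsFractionRing Γ(X, V) L :=
    IsFractionRing.isFractionRing_of_isDomain_of_isLocalization (Submonoid.powers f) Γ(X, V) L
  obtain ⟨e, he⟩ := exists_normalizationEquiv X hV hneV L
  have hsurj : Function.Surjective (algebraMap Γ(X, V) (integralClosure Γ(X, V) L)) := by
    intro z
    obtain ⟨⟨_, n, rfl⟩, hn⟩ :=
      IsIntegral.exists_multiple_integral_of_isLocalization (Submonoid.powers f) (z : L) z.2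
    obtain ⟨r, hr⟩ := hall ⟨_, hn⟩
    obtain ⟨v, hv⟩ := IsLocalization.Away.algebraMap_isUnit (S := Γ(X, V)) f
    refine ⟨algebraMap R Γ(X, V) r * ↑v⁻¹ ^ (n + 1), Subtype.ext ?_⟩
    show algebraMap Γ(X, V) L (algebraMap R Γ(X, V) r * ↑v⁻¹ ^ (n + 1)) = z
    rw [map_mul, ← IsScalarTower.algebraMap_apply R Γ(X, V) L, hr]
    show f • ((f ^ n : R) • (z : L)) * _ = _
    rw [Algebra.smul_def, Algebra.smul_def, IsScalarTower.algebraMap_apply R Γ(X, V) L,
      IsScalarTower.algebraMap_apply R Γ(X, V) L (f ^ n), map_pow, ← hv]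
    rw [show algebraMap Γ(X, V) L ↑v * (algebraMap Γ(X, V) L (↑v ^ n) * (z : L)) *
        algebraMap Γ(X, V) L (↑v⁻¹ ^ (n + 1)) =
        algebraMap Γ(X, V) L ((↑v : Γ(X, V)) ^ (n + 1) * ↑v⁻¹ ^ (n + 1)) * z by
      simp only [map_mul, map_pow]; ring]
    rw [← mul_pow, Units.mul_inv, one_pow, map_one, one_mul]
  have hbij : Function.Bijective ((Curv2.normalizationι X).app V) := by
    have h2 : ∀ a, (Curv2.normalizationι X).app V a = e.symm (algebraMap Γ(X, V) (integralClosure Γ(X, V) L) a) :=
      fun a => by rw [← he, e.symm_apply_apply]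
    refine ⟨app_injective X V, fun z => ?_⟩
    obtain ⟨a, ha⟩ := hsurj (e z)
    exact ⟨a, by rw [h2, ha, e.symm_apply_apply]⟩
  haveI : IsAffineHom (Curv2.normalizationι X) :=
    inferInstanceAs (IsAffineHom (X.fromSpecStalk (genericPoint X)).fromNormalization)
  haveI : IsAffine V.toScheme := hV
  haveI : IsAffine ((Curv2.normalizationι X ⁻¹ᵁ V : (Curv2.normalization X).Opens) : Scheme.{u}) :=
    hV.preimage (Curv2.normalizationι X)
  let g : (Curv2.normalizationι X ⁻¹ᵁ V).toScheme ⟶ V.toScheme := Curv2.normalizationι X ∣_ V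
  show IsIso g
  have h4 : IsIso g.appTop := by
    have h : (MorphismProperty.isomorphisms CommRingCat) ((Curv2.normalizationι X).resLE V
        (Curv2.normalizationι X ⁻¹ᵁ V) le_rfl).appTop := by
      refine ((MorphismProperty.isomorphisms CommRingCat).arrow_mk_iso_iff
        (arrowResLEAppIso (Curv2.normalizationι X) V _ le_rfl)).2 ?_
      rw [← Scheme.Hom.app_eq_appLE]
      exact (ConcreteCategory.isIso_iff_bijective _).2 hbij
    rwa [Scheme.Hom.resLE_eq_morphismRestrict] at h
  rw [show g = (Curv2.normalizationι X ⁻¹ᵁ V).toScheme.isoSpec.hom ≫ Spec.map g.appTop ≫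
    V.toScheme.isoSpec.inv by rw [← Category.assoc, Iso.eq_comp_inv, Scheme.isoSpec_hom_naturality]]
  infer_instance

variable {X}

omit [QuasiCompact (X.fromSpecStalk (genericPoint X))] [QuasiSeparated (X.fromSpecStalk (genericPoint X))] in
/-- A regular alteration makes all rings of sections N-1. -/
theorem isN1_of_alteration [IsLocallyNoetherian X] {W : Scheme.{u}} (g : W ⟶ X)
    [IsProper g] [IsIntegral W] [IsDominant g] (hreg : ∀ x : W, IsRegularLocalRing (W.presheaf.stalk x))
    (U : X.affineOpens) (hne : ((U : X.Opens) : Set X).Nonempty) [IsDomain Γ(X, (U : X.Opens))] :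
    CAlg.IsN1 Γ(X, (U : X.Opens)) := by
  haveI : IsAffine (U.1 : Scheme.{u}) := U.2
  haveI : IsNoetherianRing Γ(X, U.1) := IsLocallyNoetherian.component_noetherian U
  have hW : Nonempty (g ⁻¹ᵁ U.1).toScheme := by
    obtain ⟨w, hw⟩ := g.denseRange.exists_mem_open U.1.isOpen hne
    exact ⟨⟨w, hw⟩⟩
  haveI := hW
  haveI : IsDominant (g ∣_ U.1) := IsZariskiLocalAtTarget.restrict ‹IsDominant g› U.1
  haveI : IsProper (g ∣_ U.1) := IsZariskiLocalAtTarget.restrict ‹IsProper g› U.1
  haveI : IsIntegral (g ⁻¹ᵁ U.1).toScheme := isIntegral_of_isOpenImmersion (g ⁻¹ᵁ U.1).ι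
  let f : (g ⁻¹ᵁ U.1).toScheme ⟶ Spec (CommRingCat.of Γ(X, U.1)) := (g ∣_ U.1) ≫ U.2.isoSpec.hom
  refine isN1 f fun x => ?_
  haveI := hreg ((g ⁻¹ᵁ U.1).ι x)
  exact IsRegularLocalRing.of_ringEquiv
    (asIso ((g ⁻¹ᵁ U.1).ι.stalkMap x)).commRingCatIsoToRingEquiv

variable (X)

/-- The normalization of a locally Noetherian integral scheme of dimension at most one is regular. -/
theorem regular_normalization [IsLocallyNoetherian X] (hdim : topologicalKrullDim X ≤ 1)
    [IsFinite (Curv2.normalizationι X)] (y : Curv2.normalization X) :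
    IsRegularLocalRing ((Curv2.normalization X).presheaf.stalk y) := by
  haveI := NormCurve.isLocallyNoetherian_normalization X hdim
  obtain ⟨h1, h2⟩ := NormCurve.isNormalScheme_normalization X y
  refine FlatLoc6.regular_of_normal _ ?_
  obtain ⟨_, ⟨U, hU, rfl⟩, hyU, -⟩ := X.isBasis_affineOpens.exists_subset_of_mem_open
    (Set.mem_univ (Curv2.normalizationι X y)) isOpen_univ
  have hW := NormCurve.preimage_isAffine X hU
  obtain ⟨-, -, hded, -, -, -⟩ := NormCurve.facts_app X hdim hU ⟨_, hyU⟩
  let C := Γ(Curv2.normalization X, Curv2.normalizationι X ⁻¹ᵁ U)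
  letI := (Curv2.normalization X).presheaf.algebra_section_stalk (⟨y, hyU⟩ : (Curv2.normalizationι X ⁻¹ᵁ U))
  haveI := hW.isLocalization_stalk (⟨y, hyU⟩ : (Curv2.normalizationι X ⁻¹ᵁ U))
  haveI : Ring.KrullDimLE 1 C := inferInstance
  rw [IsLocalization.AtPrime.ringKrullDim_eq_height (hW.primeIdealOf ⟨y, hyU⟩).asIdeal
    ((Curv2.normalization X).presheaf.stalk y)]
  exact (Ideal.height_le_ringKrullDim_of_ne_top (Ideal.IsPrime.ne_top inferInstance)).trans
    (Ring.krullDimLE_iff.1 inferInstance)

/-- Finite normalization gives N-1 rings of sections. -/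
theorem isN1_of_isFinite [IsFinite (Curv2.normalizationι X)] (U : X.affineOpens)
    (hne : ((U : X.Opens) : Set X).Nonempty) [IsDomain Γ(X, (U : X.Opens))] :
    CAlg.IsN1 Γ(X, (U : X.Opens)) := by
  haveI : Nonempty (U.1 : X.Opens) := hne.to_subtype
  let L := FractionRing Γ(X, U.1)
  obtain ⟨e, he⟩ := NormCurve.exists_normalizationEquiv X U.2 hne L
  have h1 : ((Curv2.normalizationι X).app U.1).hom.Finite :=
    IsFinite.finite_app (f := Curv2.normalizationι X) U.1 U.2
  have h2 : algebraMap Γ(X, U.1) (integralClosure Γ(X, U.1) L) =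
      e.toRingHom.comp ((Curv2.normalizationι X).app U.1).hom := RingHom.ext fun a => (he a).symm
  show Module.Finite Γ(X, U.1) (integralClosure Γ(X, U.1) L)
  rw [← RingHom.finite_algebraMap, h2]
  exact (RingHom.Finite.of_surjective _ e.surjective).comp h1

end Groth.Agent.ResRes
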