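import Groth.Agent.ResRes.AnUnram
import Groth.Agent.ResRes.NormN1
import Groth.Agent.Hensel.EtaleReduced
import Groth.Prelude.Def_Curv2
import Mathlib.AlgebraicGeometry.Pullbacks
import Mathlib.RingTheory.LocalProperties.Reduced

/-!
# Finite normalization of schemes over analytically unramified local rings
-/

universe u

open CategoryTheory CategoryTheory.Limits AlgebraicGeometry Opposite TopologicalSpace
open scoped TensorProduct

set_option autoImplicit false
set_option linter.style.haveILetI false
set_option backward.isDefEq.respectTransparency false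
set_option backward.isDefEq.respectTransparency.types false

namespace Groth.Agent.ResRes

/-- Reducedness of the completed function field, tested at the primes over the generic point. -/
theorem isReduced_generic_cpl (A B L : Type u) [CommRing A] [IsLocalRing A]
    [CommRing B] [IsDomain B] [Algebra A B]
    [Field L] [Algebra B L] [IsFractionRing B L] [Algebra A L] [IsScalarTower A B L]
    (h : ∀ (Q : Ideal (B ⊗[A] EGA4.Cpl A)) [Q.IsPrime], (∀ b : B, b ≠ 0 → b ⊗ₜ[A] (1 : EGA4.Cpl A) ∉ Q) →
      IsReduced (Localization.AtPrime Q)) :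
    IsReduced (L ⊗[A] EGA4.Cpl A) := by
  let B' := B ⊗[A] EGA4.Cpl A
  let Z : Type u := B' ⊗[B] L
  letI : CommRing Z := inferInstanceAs (CommRing (B' ⊗[B] L))
  letI : Algebra B' Z := inferInstanceAs (Algebra B' (B' ⊗[B] L))
  letI : Algebra B Z := inferInstanceAs (Algebra B (B' ⊗[B] L))
  let M' := Algebra.algebraMapSubmonoid B' (nonZeroDivisors B)
  haveI : IsLocalization M' Z :=
    inferInstanceAs (IsLocalization (Algebra.algebraMapSubmonoid B' (nonZeroDivisors B)) (B' ⊗[B] L))
  haveI hZ : IsReduced Z := by
    refine isReduced_ofLocalizationMaximal Z fun P _ => ?_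
    let Q : Ideal B' := P.comap (algebraMap B' Z)
    have hQ : ∀ b : B, b ≠ 0 → b ⊗ₜ[A] (1 : EGA4.Cpl A) ∉ Q := fun b hb hmem =>
      Ideal.IsPrime.ne_top inferInstance (Ideal.eq_top_of_isUnit_mem P hmem
        (IsLocalization.map_units Z (⟨_, ⟨b, mem_nonZeroDivisors_of_ne_zero hb, rfl⟩⟩ : M')))
    haveI := h Q hQ
    haveI : IsLocalization.AtPrime (Localization.AtPrime P) Q :=
      IsLocalization.isLocalization_isLocalization_atPrime_isLocalization M' (Localization.AtPrime P) P
    let e := IsLocalization.algEquiv Q.primeCompl (Localization.AtPrime P) (Localization.AtPrime Q)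
    exact isReduced_of_injective e.toRingEquiv.toRingHom e.injective
  let e : Z ≃ₐ[B] L ⊗[A] EGA4.Cpl A :=
    (Algebra.TensorProduct.comm B B' L).trans
      ((Algebra.TensorProduct.cancelBaseChange A B L L (EGA4.Cpl A)).restrictScalars B)
  exact isReduced_of_injective e.symm.toRingEquiv.toRingHom e.symm.injective

/-- If the maximal ideal dies in the field, the completed field is reduced. -/
theorem isReduced_generic_cpl_of_closed (A L : Type u) [CommRing A] [IsLocalRing A] [IsNoetherianRing A]
    [Field L] [Algebra A L] (h : ∀ a ∈ IsLocalRing.maximalIdeal A, algebraMap A L a = 0) :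
    IsReduced (L ⊗[A] EGA4.Cpl A) := by
  let i : L →+* L ⊗[A] EGA4.Cpl A := Algebra.TensorProduct.includeLeftRingHom
  have hsurj : Function.Surjective i := fun z => by
    induction z using TensorProduct.induction_on with
    | zero => exact ⟨0, map_zero i⟩
    | tmul l x =>
      haveI := FlatLoc6.isNoetherianRing_cpl A
      obtain ⟨a, ha⟩ := CAlgOdd.NagataFT.cpl_dense x
      refine ⟨algebraMap A L a * l, ?_⟩
      have hz : ∀ c ∈ (IsLocalRing.maximalIdeal A).map (algebraMap A (EGA4.Cpl A)), l ⊗ₜ[A] c = 0 := by
        intro c hc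
        induction hc using Submodule.span_induction generalizing l with
        | mem y hy =>
          obtain ⟨m, hm, rfl⟩ := hy
          rw [Algebra.algebraMap_eq_smul_one, TensorProduct.tmul_smul, TensorProduct.smul_tmul',
            Algebra.smul_def, h m hm, zero_mul, TensorProduct.zero_tmul]
        | zero => rw [TensorProduct.tmul_zero]
        | add u v _ _ hu hv => rw [TensorProduct.tmul_add, hu, hv, add_zero]
        | smul r y _ hy =>
          rw [smul_eq_mul, ← one_mul l, ← Algebra.TensorProduct.tmul_mul_tmul, hy, mul_zero]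
      show (algebraMap A L a * l) ⊗ₜ[A] (1 : EGA4.Cpl A) = l ⊗ₜ[A] x
      rw [← sub_add_cancel x (algebraMap A (EGA4.Cpl A) a), TensorProduct.tmul_add, hz _ ha, zero_add,
        Algebra.algebraMap_eq_smul_one (A := EGA4.Cpl A) a, TensorProduct.tmul_smul, TensorProduct.smul_tmul',
        Algebra.smul_def]
    | add u v hu hv =>
      obtain ⟨a, rfl⟩ := hu
      obtain ⟨b, rfl⟩ := hv
      exact ⟨a + b, map_add i a b⟩
  rcases subsingleton_or_nontrivial (L ⊗[A] EGA4.Cpl A) with hs | hn
  · exact ⟨fun x _ => Subsingleton.elim _ _⟩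
  · exact isReduced_of_injective (RingEquiv.ofBijective i ⟨i.injective, hsurj⟩).symm.toRingHom
      (RingEquiv.injective _)

section Scheme

variable {A : Type u} [CommRing A] {X : Scheme.{u}} (f : X ⟶ Spec (CommRingCat.of A))

/-- The structure map on the sections of an open. -/
noncomputable def gamAt (V : X.Opens) : A →+* Γ(X, V) :=
  ((Scheme.ΓSpecIso (CommRingCat.of A)).inv ≫ f.appLE ⊤ V le_top).hom

/-- The structure map on the function field. -/
noncomputable def gamGen [IsIntegral X] : A →+* X.functionField :=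
  (X.presheaf.germ ⊤ (genericPoint X) trivial).hom.comp (gam f)

theorem germ_gamAt [IsIntegral X] (V : X.Opens) [Nonempty V] (a : A) :
    X.germToFunctionField V (gamAt f V a) = gamGen f a := by
  show X.presheaf.germ V (genericPoint X) _ (f.appLE ⊤ V le_top _) = _
  rw [Scheme.Hom.appLE, CommRingCat.comp_apply, TopCat.Presheaf.germ_res_apply]
  rfl

theorem finiteType_gamAt [LocallyOfFiniteType f] {V : X.Opens} (hV : IsAffineOpen V) :
    (gamAt f V).FiniteType := by
  refine RingHom.FiniteType.comp (LocallyOfFiniteType.finiteType_appLE f (isAffineOpen_top _) hV le_top)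
    (RingHom.FiniteType.of_surjective _ ?_)
  exact (Scheme.ΓSpecIso (CommRingCat.of A)).symm.commRingCatIsoToRingEquiv.surjective

theorem specMap_gamAt {V : X.Opens} (hV : IsAffineOpen V) :
    hV.fromSpec ≫ f = Spec.map (CommRingCat.ofHom (gamAt f V)) := by
  rw [← IsAffineOpen.SpecMap_appLE_fromSpec f (isAffineOpen_top _) hV le_top, IsAffineOpen.fromSpec_top,
    Scheme.isoSpec_Spec_inv, ← Spec.map_comp]
  rfl

variable [IsLocalRing A] [IsNoetherianRing A]

/-- Finite normalization when the completed function field is reduced. -/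
theorem isFinite_normalizationι_of_reduced [IsIntegral X] [LocallyOfFiniteType f]
    [QuasiCompact (X.fromSpecStalk (genericPoint X))] [QuasiSeparated (X.fromSpecStalk (genericPoint X))]
    (hred : letI := (gamGen f).toAlgebra; IsReduced (X.functionField ⊗[A] EGA4.Cpl A)) :
    IsFinite (Curv2.normalizationι X) := by
  refine isFinite_normalizationι X fun U hne => ?_
  intro hdom
  haveI : Nonempty (U.1 : X.Opens) := hne.to_subtype
  letI := (gamAt f U.1).toAlgebra
  letI := (gamGen f).toAlgebra
  haveI : IsScalarTower A Γ(X, U.1) X.functionField :=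
    IsScalarTower.of_algebraMap_eq fun a => (germ_gamAt f U.1 a).symm
  haveI : Algebra.FiniteType A Γ(X, U.1) := finiteType_gamAt f U.2
  haveI := functionField_isFractionRing_of_isAffineOpen X U.1 U.2
  haveI := finite_integralClosure_of_reduced_cpl A Γ(X, U.1) X.functionField hred
  exact Module.Finite.equiv
    (AlgEquiv.mapIntegralClosure (FractionRing.algEquiv Γ(X, U.1) X.functionField).symm).toLinearEquiv

/-- The completed chart, as an open subscheme of the completed scheme. -/
theorem exists_chart {V : X.Opens} (hV : IsAffineOpen V) :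
    letI := (gamAt f V).toAlgebra
    ∃ ι : Spec (CommRingCat.of (Γ(X, V) ⊗[A] EGA4.Cpl A)) ⟶ Curv2.bcCpl A f, IsOpenImmersion ι ∧
      ι ≫ Curv2.bcCplSnd A f =
        Spec.map (CommRingCat.ofHom
          (Algebra.TensorProduct.includeRight (R := A) (A := Γ(X, V)) (B := EGA4.Cpl A)).toRingHom) := by
  letI := (gamAt f V).toAlgebra
  let g := Spec.map (CommRingCat.ofHom (algebraMap A (Curv2.cpl A)))
  let e₁ := (pullbackSpecIso A Γ(X, V) (EGA4.Cpl A)).symm
  let e₂ := pullback.congrHom (f₁ := hV.fromSpec ≫ f) (f₂ := Spec.map (CommRingCat.ofHom (algebraMap A Γ(X, V))))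
    (g₁ := g) (g₂ := g) (specMap_gamAt f hV) rfl
  let e₃ := pullbackRightPullbackFstIso f g hV.fromSpec
  refine ⟨e₁.hom ≫ e₂.inv ≫ e₃.inv ≫ pullback.snd _ _, inferInstance, ?_⟩
  show (e₁.hom ≫ e₂.inv ≫ e₃.inv ≫ pullback.snd _ _) ≫ pullback.snd f g = _
  simp only [Category.assoc]
  rw [show e₃.inv ≫ pullback.snd hV.fromSpec (pullback.fst f g) ≫ pullback.snd f g = pullback.snd _ _ from by
      rw [Iso.inv_comp_eq, pullbackRightPullbackFstIso_hom_snd],
    show e₂.inv ≫ pullback.snd (hV.fromSpec ≫ f) g = pullback.snd _ _ from by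
      rw [Iso.inv_comp_eq]; simp [e₂]]
  exact pullbackSpecIso_inv_snd _ _ _

end Scheme

end Groth.Agent.ResRes
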