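import Groth.Agent.ResRes.CplMap
import Groth.Agent.ValExtend.Basic
import Groth.Agent.HensCouple7.Gamma
import Mathlib.AlgebraicGeometry.Properties

/-!
# Global functions on a normal Noetherian scheme form a normal ring
-/

universe u

open CategoryTheory AlgebraicGeometry TopologicalSpace Opposite

set_option autoImplicit false
set_option linter.style.haveILetI false
set_option backward.isDefEq.respectTransparency false
set_option backward.isDefEq.respectTransparency.types false

namespace Groth.Agent.ResRes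

/-- Global functions on a Noetherian scheme with normal local rings, when Noetherian, form a normal ring. -/
theorem isNormalRing_gamma (Y : Scheme.{u}) [IsNoetherian Y] [IsNoetherianRing Γ(Y, ⊤)]
    (hY : ∀ y : Y, IsDomain (Y.presheaf.stalk y) ∧ IsIntegrallyClosed (Y.presheaf.stalk y)) :
    EGA4.IsNormalRing Γ(Y, ⊤) := by
  haveI : ∀ y : Y, _root_.IsReduced (Y.presheaf.stalk y) := fun y => by
    haveI := (hY y).1; infer_instance
  haveI : IsReduced Y := isReduced_of_isReduced_stalk Y
  refine isNormalRing_of_closed fun x s d m hs hrel => ?_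
  let gy : ∀ y : Y, Γ(Y, ⊤) →+* Y.presheaf.stalk y := fun y => (Y.presheaf.germ ⊤ y trivial).hom
  have hres : ∀ (W : Y.Opens) (y : Y) (hy : y ∈ W) (z : Γ(Y, ⊤)),
      Y.presheaf.germ W y hy (Y.presheaf.map (homOfLE le_top).op z) = gy y z := fun W y hy z =>
    TopCat.Presheaf.germ_res_apply _ _ _ _ _
  choose W hyW hW using fun y : Y => ValExtend.exists_integral_nhd y (Or.inr ‹IsNoetherian Y›) (hY y).1
  have hinj : ∀ (V : Y.Opens) [IsIntegral (V : Scheme.{u})] (y : Y) (hy : y ∈ V),
      Function.Injective (Y.presheaf.germ V y hy) := fun V _ y hy a b h => by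
    have h1 := germ_injective_of_isIntegral (X := (V : Scheme.{u})) (U := ⊤) ⟨y, hy⟩ trivial
    have h2 : ∀ c : Γ(Y, V), (V.stalkIso ⟨y, hy⟩).hom
        ((V : Scheme.{u}).presheaf.germ ⊤ ⟨y, hy⟩ trivial (V.topIso.inv c)) = Y.presheaf.germ V y hy c := fun c => by
      rw [← CommRingCat.comp_apply ((V : Scheme.{u}).presheaf.germ ⊤ ⟨y, hy⟩ trivial) (V.stalkIso ⟨y, hy⟩).hom,
        V.germ_stalkIso_hom]
      exact TopCat.Presheaf.germ_res_apply Y.presheaf _ y _ c
    exact (ConcreteCategory.bijective_of_isIso V.topIso.inv).1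
      (h1 ((ConcreteCategory.bijective_of_isIso (V.stalkIso ⟨y, hy⟩).hom).1 ((h2 a).trans (h.trans (h2 b).symm))))
  -- the vanishing locus of `s` is clopen, hence empty
  let Z : Set Y := {y | gy y s = 0}
  have hZo : IsOpen Z := isOpen_iff_forall_mem_open.2 fun y (hy : gy y s = 0) => by
    obtain ⟨V, hyV, i, _, hV⟩ := Y.presheaf.germ_eq (U := ⊤) (V := ⊤) y trivial trivial s 0 (hy.trans (map_zero _).symm)
    refine ⟨V, fun z hz => ?_, V.isOpen, hyV⟩
    show gy z s = 0
    rw [← TopCat.Presheaf.germ_res_apply Y.presheaf i z hz, hV]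
    simp
  have hZc : IsClosed Z := isOpen_compl_iff.1 (isOpen_iff_forall_mem_open.2 fun z hz => by
    refine ⟨W z, fun y hy hyZ => hz ?_, (W z).isOpen, hyW z⟩
    haveI := hW z
    have h0 : Y.presheaf.map (homOfLE le_top).op s = (0 : Γ(Y, W z)) :=
      hinj (W z) y hy (by rw [hres, map_zero]; exact hyZ)
    show gy z s = 0
    rw [← hres (W z) z (hyW z), h0, map_zero])
  obtain ⟨ε, hε, hεZ⟩ := HensCouple7.exists_idempotent_of_isClopen ⟨hZc, hZo⟩
  have hε0 : ε = 0 := by
    refine (mem_nonZeroDivisors_iff_right.1 hs) ε ?_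
    refine TopCat.Presheaf.section_ext Y.sheaf ⊤ _ _ fun y _ => ?_
    show gy y (ε * s) = gy y 0
    rw [map_mul, map_zero]
    by_cases hy : y ∈ Z
    · rw [show gy y s = 0 from hy, mul_zero]
    · haveI := (hY y).1
      have hu : ¬ IsUnit (gy y ε) := fun hu => hy (hεZ ▸ (Y.mem_basicOpen ε y trivial).2 hu)
      rcases (IsIdempotentElem.iff_eq_zero_or_one.1 (show IsIdempotentElem (gy y ε) by
        show _ * _ = _; rw [← map_mul, hε])) with h | h
      · rw [h, zero_mul]
      · exact absurd (h ▸ isUnit_one) hu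
  have hne : ∀ y : Y, gy y s ≠ 0 := fun y hy => by
    have : y ∈ (Y.basicOpen ε : Set Y) := hεZ.symm ▸ hy
    rw [hε0, Scheme.basicOpen_zero] at this
    exact this
  -- local quotients
  have hloc : ∀ y : Y, ∃ (O : Y.Opens) (_ : y ∈ O) (t : Γ(Y, O)), ∀ z (hz : z ∈ O),
      gy z x = gy z s * Y.presheaf.germ O z hz t := fun y => by
    haveI := (hY y).1
    haveI := (hY y).2
    let K := FractionRing (Y.presheaf.stalk y)
    let φ : Y.presheaf.stalk y →+* K := algebraMap _ K
    have hφs : φ (gy y s) ≠ 0 := fun h => hne y ((IsFractionRing.injective _ K) (h.trans (map_zero _).symm))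
    have hint : IsIntegral (Y.presheaf.stalk y) (φ (gy y x) / φ (gy y s)) := by
      refine ⟨Polynomial.X ^ d + ∑ i : Fin d, Polynomial.C (gy y (m i)) * Polynomial.X ^ (i : ℕ),
        Polynomial.monic_X_pow_add (Polynomial.degree_sum_fin_lt _), ?_⟩
      have h0 := congrArg (φ.comp (gy y)) hrel
      simp only [map_add, map_sum, map_mul, map_pow, map_zero, RingHom.comp_apply] at h0
      rw [Finset.sum_range] at h0
      simp only [Polynomial.eval₂_add, Polynomial.eval₂_X_pow, Polynomial.eval₂_finsetSum,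
        Polynomial.eval₂_mul, Polynomial.eval₂_C]
      refine (mul_eq_zero.mp ?_).resolve_left (pow_ne_zero d hφs)
      rw [← h0, mul_add, Finset.mul_sum]
      congr 1
      · rw [← mul_pow, mul_div_cancel₀ _ hφs]
      · exact Finset.sum_congr rfl fun i _ => IntBC.frac_low i.2.le hφs
    obtain ⟨q, hq⟩ := IsIntegrallyClosed.isIntegral_iff.mp hint
    have hxq : gy y x = gy y s * q := IsFractionRing.injective _ K (by
      show φ _ = φ _
      rw [map_mul φ, show φ q = _ from hq, mul_div_cancel₀ _ hφs])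
    -- the quotient is a section near `y`
    obtain ⟨V, hyV, t, rfl⟩ := Y.presheaf.exists_germ_eq q
    obtain ⟨O, hyO, i, j, hO⟩ := Y.presheaf.germ_eq (U := V) (V := V) y hyV hyV
      (Y.presheaf.map (homOfLE le_top).op x) (Y.presheaf.map (homOfLE le_top).op s * t) (by
        rw [map_mul, hres, hres]; exact hxq)
    refine ⟨O, hyO, Y.presheaf.map i.op t, fun z hz => ?_⟩
    have h := congrArg (Y.presheaf.germ O z hz) hO
    simp only [map_mul, TopCat.Presheaf.germ_res_apply] at h
    rw [TopCat.Presheaf.germ_res_apply]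
    exact h
  choose O hyO t ht using hloc
  obtain ⟨r, hr, -⟩ := Y.sheaf.existsUnique_gluing' O ⊤ (fun y => homOfLE le_top)
    (fun y _ => Opens.mem_iSup.2 ⟨y, hyO y⟩) t (fun y y' => by
      refine TopCat.Presheaf.section_ext Y.sheaf _ _ _ fun z hz => ?_
      haveI := (hY z).1
      refine (TopCat.Presheaf.germ_res_apply _ _ _ _ _).trans (Eq.trans ?_
        (TopCat.Presheaf.germ_res_apply _ _ _ _ _).symm)
      exact mul_left_cancel₀ (M₀ := Y.presheaf.stalk z) (hne z) ((ht y z hz.1).symm.trans (ht y' z hz.2)))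
  let r' : Γ(Y, ⊤) := r
  refine ⟨r', TopCat.Presheaf.section_ext Y.sheaf ⊤ _ _ fun z _ => ?_⟩
  show gy z x = gy z (s * r')
  rw [map_mul, ht z z (hyO z), ← hr z]
  exact congrArg (gy z s * ·) (TopCat.Presheaf.germ_res_apply Y.presheaf (homOfLE le_top) z (hyO z) r)

end Groth.Agent.ResRes
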