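import Groth.Agent.IntBC.Normal
import Groth.Agent.EssEtFrac5.Basic
import Groth.Agent.CplFib6.SemiLocal
import Groth.Agent.FlatLoc6.GeomRed
import Groth.Agent.FlatLoc6.Cpl
import Mathlib.Algebra.Module.FinitePresentation
import Mathlib.RingTheory.SimpleModule.InjectiveProjective
import Mathlib.RingTheory.Ideal.MinimalPrime.Noetherian

/-!
# Normality of completions descends to finite subalgebras
-/

universe u

open IsLocalRing TensorProduct nonZeroDivisors

set_option autoImplicit false
set_option linter.style.haveILetI false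

namespace Groth.Agent.ResRes

/-- Adding a suitable element of the annihilator makes an element regular. -/
theorem exists_annihilator_add_regular {R : Type u} [CommRing R] [IsNoetherianRing R] [IsReduced R] (a : R) :
    ∃ w : R, w * a = 0 ∧ a + w ∈ nonZeroDivisors R := by
  classical
  have hfin := minimalPrimes.finite_of_isNoetherianRing R
  let I : Ideal R := (Submodule.span R {a}).annihilator
  have hI : ∀ x, x ∈ I ↔ x * a = 0 := fun x => by rw [Submodule.mem_annihilator_span_singleton, smul_eq_mul]
  let s := hfin.toFinset.filter fun P => a ∈ P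
  have hnot : ∀ P ∈ s, ¬ I ≤ P := by
    intro P hP hle
    simp only [s, Finset.mem_filter, Set.Finite.mem_toFinset] at hP
    haveI : P.IsPrime := hP.1.1.1
    obtain ⟨b, hb, hnil⟩ : ∃ b ∉ P, b * a = 0 := by
      let J : Ideal R := ∏ Q ∈ hfin.toFinset.erase P, Q
      have hJP : ¬ J ≤ P := fun h => by
        obtain ⟨Q, hQ, hQP⟩ := (Ideal.IsPrime.prod_le inferInstance).1 h
        rw [Finset.mem_erase, Set.Finite.mem_toFinset] at hQ
        exact hQ.1 (le_antisymm hQP (hP.1.2 hQ.2.1 hQP))
      obtain ⟨b, hbJ, hbP⟩ := SetLike.not_le_iff_exists.1 hJP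
      refine ⟨b, hbP, IsNilpotent.eq_zero (mem_nilradical.1 ?_)⟩
      rw [nilradical, Ideal.zero_eq_bot, ← Ideal.sInf_minimalPrimes, Ideal.mem_sInf]
      intro Q hQ
      by_cases hQP : Q = P
      · exact hQP ▸ P.mul_mem_left b hP.2
      · refine Q.mul_mem_right a ?_
        have h1 : J ≤ Q := Ideal.prod_le_inf.trans
          (Finset.inf_le (f := id) (Finset.mem_erase.2 ⟨hQP, hfin.mem_toFinset.2 hQ⟩))
        exact h1 hbJ
    exact hb (hle ((hI b).2 hnil))
  obtain ⟨w, hwI, hw⟩ : ∃ w ∈ I, ∀ P ∈ s, w ∉ P := by
    by_contra hcon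
    push Not at hcon
    have hsub : (I : Set R) ⊆ ⋃ P ∈ s, ((id P : Ideal R) : Set R) := fun x hx => by
      obtain ⟨P, hP, hxP⟩ := hcon x hx
      exact Set.mem_biUnion hP hxP
    obtain ⟨P, hP, hle⟩ := (Ideal.subset_union_prime ⊤ ⊤ fun P hP _ _ => by
      simp only [s, Finset.mem_filter, Set.Finite.mem_toFinset] at hP
      exact hP.1.1.1).1 hsub
    exact hnot P hP hle
  refine ⟨w, (hI w).1 hwI, mem_nonZeroDivisors_iff_right.2 fun z hz => ?_⟩
  refine IsNilpotent.eq_zero (mem_nilradical.1 ?_)
  rw [nilradical, Ideal.zero_eq_bot, ← Ideal.sInf_minimalPrimes, Ideal.mem_sInf]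
  intro P hP
  haveI : P.IsPrime := hP.1.1
  refine ((Ideal.IsPrime.mem_or_mem inferInstance (hz ▸ P.zero_mem : z * (a + w) ∈ P))).resolve_right fun h => ?_
  by_cases ha : a ∈ P
  · exact hw P (Finset.mem_filter.2 ⟨hfin.mem_toFinset.2 hP, ha⟩) ((P.add_mem_iff_right ha).1 h)
  · have : w ∈ P := ((Ideal.IsPrime.mem_or_mem inferInstance
      ((hI w).1 hwI ▸ P.zero_mem : w * a ∈ P))).resolve_right ha
    exact ha ((P.add_mem_iff_left this).1 h)

/-- A reduced Noetherian ring in which integral fractions with regular denominators are elements is normal. -/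
theorem isNormalRing_of_closed {R : Type u} [CommRing R] [IsNoetherianRing R] [IsReduced R]
    (hcl : ∀ (x s : R) (d : ℕ) (m : ℕ → R), s ∈ nonZeroDivisors R →
      x ^ d + ∑ i ∈ Finset.range d, m i * x ^ i * s ^ (d - i) = 0 → ∃ r, x = s * r) :
    EGA4.IsNormalRing R := by
  have hidem : IntBC.IdemSep R := by
    intro a b hab
    obtain ⟨w, hwa, hreg⟩ := exists_annihilator_add_regular a
    obtain ⟨e, he⟩ := hcl w (a + w) 2 (fun i => if i = 1 then -1 else 0) hreg (by
      rw [Finset.sum_range_succ, Finset.sum_range_one]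
      norm_num
      linear_combination -hwa)
    have hcancel : ∀ y z : R, (a + w) * y = (a + w) * z → y = z := fun y z h =>
      sub_eq_zero.1 ((mem_nonZeroDivisors_iff_right.1 hreg) _ (by linear_combination h))
    have hea : e * a = 0 := hcancel _ _ (by linear_combination hwa - a * he)
    refine ⟨e, hcancel _ _ ?_, hea, hcancel _ _ ?_⟩
    · linear_combination -e * he - hea
    · linear_combination -hab - b * he
  refine IntBC.isNormalRing_of hidem ?_
  intro Q hQ a c d m s hs hrel hc
  obtain ⟨w, hwc, hreg⟩ := exists_annihilator_add_regular c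
  obtain ⟨e, he, hec, hew⟩ := hidem c w (by rw [mul_comm]; exact hwc)
  have heQ : e ∈ Q := by
    by_contra h
    exact hc e h hec
  have hf : (1 - e) ∉ Q := fun h => hQ.ne_top ((Ideal.eq_top_iff_one Q).2 (by simpa using add_mem h heQ))
  have hC : c + e ∈ nonZeroDivisors R := mem_nonZeroDivisors_iff_right.2 fun z hz => by
    have hze : z * e = 0 := by linear_combination e * hz - z * he.eq - z * hec
    have hzc : z * c = 0 := by linear_combination hz - hze
    refine (mem_nonZeroDivisors_iff_right.1 hreg) z ?_
    linear_combination hzc - z * hew + w * hze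
  cases d with
  | zero =>
    simp only [pow_zero, mul_one, Finset.range_zero, Finset.sum_empty, add_zero] at hrel
    exact absurd (hrel ▸ Q.zero_mem : s ∈ Q) hs
  | succ n =>
    have hfC : (1 - e) * (c + e) = c := by linear_combination -hec - he.eq
    obtain ⟨r, hr⟩ := hcl ((1 - e) * (s * a)) (c + e) (n + 1) (fun i => (1 - e) * (m i * s ^ (n - i))) hC (by
      have hff : IsIdempotentElem (1 - e) := he.one_sub
      have h1 : ∀ k : ℕ, (1 - e) ^ (k + 1) = 1 - e := fun k => hff.pow_succ_eq k
      have hCk : ∀ k : ℕ, (1 - e) * (c + e) ^ (k + 1) = (1 - e) * c ^ (k + 1) := fun k => by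
        conv_rhs => rw [← hfC, mul_pow, ← mul_assoc, h1, hff.eq]
      calc ((1 - e) * (s * a)) ^ (n + 1) + ∑ i ∈ Finset.range (n + 1),
            (1 - e) * (m i * s ^ (n - i)) * ((1 - e) * (s * a)) ^ i * (c + e) ^ (n + 1 - i)
          = (1 - e) * s ^ n * (s * a ^ (n + 1) +
              ∑ i ∈ Finset.range (n + 1), m i * a ^ i * c ^ (n + 1 - i)) := by
            rw [mul_add, Finset.mul_sum, mul_pow, h1]
            congr 1
            · ring
            · refine Finset.sum_congr rfl fun i hi => ?_
              have hin : i ≤ n := Nat.lt_succ_iff.1 (Finset.mem_range.1 hi)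
              have h2 : (1 - e) * (c + e) ^ (n + 1 - i) = (1 - e) * c ^ (n + 1 - i) := by
                rw [show n + 1 - i = (n - i) + 1 by omega]; exact hCk _
              have h3 : (1 - e) * (1 - e) ^ i = 1 - e := by
                rw [← pow_succ']; exact h1 i
              rw [mul_pow, mul_pow]
              rw [show s ^ n = s ^ (n - i) * s ^ i by rw [← pow_add, Nat.sub_add_cancel hin]]
              linear_combination (m i * s ^ (n - i) * s ^ i * a ^ i * (c + e) ^ (n + 1 - i)) * h3 +
                (m i * s ^ (n - i) * s ^ i * a ^ i) * h2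
        _ = 0 := by rw [hrel, mul_zero])
    refine ⟨(1 - e) * s, Q.primeCompl.mul_mem hf hs, (1 - e) * r, ?_⟩
    linear_combination (1 - e) * hr + r * hfC + r * hec - (s * a) * he.eq

/-- In a normal ring an element integral over `s` is a multiple of `s`. -/
theorem exists_eq_mul_of_rel {T : Type u} [CommRing T] (hT : EGA4.IsNormalRing T) (X S : T) (d : ℕ) (m : ℕ → T)
    (hrel : X ^ d + ∑ i ∈ Finset.range d, m i * X ^ i * S ^ (d - i) = 0) : ∃ c, X = S * c := by
  haveI := FlatLoc6.isReduced_of_isNormalRing T hT
  by_contra hcon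
  obtain ⟨P, hP, hle⟩ := Ideal.exists_le_maximal ((Ideal.span {S}).colon {X}) (by
    rw [Ideal.ne_top_iff_one, Submodule.mem_colon_singleton, one_smul, Ideal.mem_span_singleton']
    rintro ⟨c, hc⟩
    exact hcon ⟨c, by rw [← hc, mul_comm]⟩)
  have hmem : ∃ v ∉ P, ∃ r, v * X = S * r := by
    by_cases hv : ∃ v ∉ P, v * S = 0
    · obtain ⟨v, hvP, hvS⟩ := hv
      refine ⟨v, hvP, 0, ?_⟩
      rw [mul_zero]
      refine IsNilpotent.eq_zero ⟨d, ?_⟩
      have h1 := congrArg (v ^ d * ·) hrel
      simp only [mul_add, mul_zero, Finset.mul_sum] at h1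
      rw [Finset.sum_eq_zero (fun i hi => ?_), add_zero, ← mul_pow] at h1
      · exact h1
      · rw [show v ^ d = v ^ i * v ^ (d - i) by rw [← pow_add, Nat.add_sub_cancel' (Finset.mem_range.1 hi).le],
          show v ^ i * v ^ (d - i) * (m i * X ^ i * S ^ (d - i)) = v ^ i * m i * X ^ i * (v * S) ^ (d - i) by ring,
          hvS, zero_pow (Nat.sub_ne_zero_of_lt (Finset.mem_range.1 hi)), mul_zero]
    · push Not at hv
      exact IntBC.fracClosed_of_normal hT P hP.isPrime X S d m 1
        (fun h => hP.ne_top ((Ideal.eq_top_iff_one P).2 h)) (by rw [one_mul]; exact hrel) hv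
  obtain ⟨v, hvP, r, hvr⟩ := hmem
  exact hvP (hle (Submodule.mem_colon_singleton.2 (Ideal.mem_span_singleton'.2 ⟨r, by
    rw [smul_eq_mul, hvr, mul_comm]⟩)))

/-- A finite module over a reduced Noetherian ring is, up to a regular scalar, a direct summand of a free one. -/
theorem exists_retraction_up_to_scalar (B : Type u) [CommRing B] [IsNoetherianRing B] [IsReduced B]
    (M : Type u) [AddCommGroup M] [Module B M] [Module.Finite B M] :
    ∃ (n : ℕ) (φ : M →ₗ[B] (Fin n → B)) (g : (Fin n → B) →ₗ[B] M) (r : B),
      r ∈ B⁰ ∧ ∀ z, g (φ z) = r • z := by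
  obtain ⟨n, p, hp⟩ := Module.Finite.exists_fin' B M
  let S := B⁰
  haveI : Module.FinitePresentation B M := Module.finitePresentation_of_finite B M
  haveI : IsArtinianRing (Localization S) :=
    EssEtFrac5.isArtinianRing_fractionRing (minimalPrimes.finite_of_isNoetherianRing B)
  haveI : IsReduced (Localization S) := isReduced_localizationPreserves S _ inferInstance
  haveI : IsSemisimpleRing (Localization S) := IsArtinianRing.isSemisimpleRing_of_isReduced _
  haveI : Module.Projective (Localization S) (LocalizedModule S M) := Module.projective_of_isSemisimpleRing _ _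
  let pS := LocalizedModule.map S p
  have hpS : Function.Surjective pS := LocalizedModule.map_surjective S p hp
  obtain ⟨σ, hσ⟩ := Module.projective_lifting_property pS LinearMap.id hpS
  obtain ⟨φ, s, hφ⟩ := Module.FinitePresentation.exists_lift_of_isLocalizedModule S
    (LocalizedModule.mkLinearMap S (Fin n → B))
    ((σ.restrictScalars B).comp (LocalizedModule.mkLinearMap S M))
  have heq : (LocalizedModule.mkLinearMap S M).comp (p.comp φ) =
      (LocalizedModule.mkLinearMap S M).comp ((s : B) • LinearMap.id) := by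
    refine LinearMap.ext fun z => ?_
    have h1 : LocalizedModule.mkLinearMap S (Fin n → B) (φ z) = (s : B) • σ (LocalizedModule.mkLinearMap S M z) :=
      LinearMap.congr_fun hφ z
    have h2 : pS (LocalizedModule.mkLinearMap S (Fin n → B) (φ z)) =
        LocalizedModule.mkLinearMap S M (p (φ z)) := LocalizedModule.map_mk S p (φ z) 1
    show LocalizedModule.mkLinearMap S M (p (φ z)) = LocalizedModule.mkLinearMap S M ((s : B) • z)
    rw [← h2, h1, LinearMap.map_smul_of_tower, map_smul (LocalizedModule.mkLinearMap S M),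
      ← LinearMap.comp_apply pS σ, hσ, LinearMap.id_apply]
  obtain ⟨t, ht⟩ := Module.Finite.exists_smul_of_comp_eq_of_isLocalizedModule S
    (LocalizedModule.mkLinearMap S M) _ _ heq
  refine ⟨n, φ, (t : B) • p, t * s, Submonoid.mul_mem _ t.2 s.2, fun z => ?_⟩
  rw [mul_smul]
  exact LinearMap.congr_fun ht z

section Descent

variable (A B C : Type u) [CommRing A] [IsLocalRing A] [IsNoetherianRing A] [CommRing B] [CommRing C]
  [Algebra A B] [Algebra A C] [Algebra B C] [IsScalarTower A B C] [Module.Finite A B] [Module.Finite A C]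

/-- Normality of the completion descends to a normal finite subalgebra. -/
theorem isNormalRing_tensor_cpl_of_sub (hinj : Function.Injective (algebraMap B C)) (hB : EGA4.IsNormalRing B)
    (hC : EGA4.IsNormalRing (C ⊗[A] EGA4.Cpl A)) : EGA4.IsNormalRing (B ⊗[A] EGA4.Cpl A) := by
  let Ah := EGA4.Cpl A
  haveI := FlatLoc6.isNoetherianRing_cpl A
  haveI := FlatLoc6.faithfullyFlat_cpl A
  haveI : IsNoetherianRing B := IsNoetherianRing.of_finite A B
  haveI : Module.Finite B C := Module.Finite.of_restrictScalars_finite A B C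
  haveI := FlatLoc6.isReduced_of_isNormalRing B hB
  haveI : IsNoetherianRing (Ah ⊗[A] B) := IsNoetherianRing.of_finite Ah _
  haveI : IsNoetherianRing (B ⊗[A] Ah) :=
    isNoetherianRing_of_ringEquiv _ (Algebra.TensorProduct.comm A Ah B).toRingEquiv
  let ι : B ⊗[A] Ah →ₐ[A] C ⊗[A] Ah :=
    Algebra.TensorProduct.map (IsScalarTower.toAlgHom A B C) (AlgHom.id A Ah)
  have hι : Function.Injective ι :=
    Module.Flat.rTensor_preserves_injective_linearMap (M := Ah) (IsScalarTower.toAlgHom A B C).toLinearMap hinj
  haveI := FlatLoc6.isReduced_of_isNormalRing _ hC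
  haveI : IsReduced (B ⊗[A] Ah) := isReduced_of_injective ι hι
  refine isNormalRing_of_closed fun x s d m hs hrel => ?_
  obtain ⟨c, hc⟩ := exists_eq_mul_of_rel hC (ι x) (ι s) d (fun i => ι (m i)) (by
    have h := congrArg ι hrel
    simpa [map_add, map_sum, map_mul, map_pow] using h)
  -- a retraction up to a scalar
  let L : B →ₗ[B] C := Algebra.linearMap B C
  obtain ⟨n, φ, g, r, hr, hgφ⟩ := exists_retraction_up_to_scalar B (C ⧸ LinearMap.range L)
  choose gl hgl using fun i => Submodule.mkQ_surjective (LinearMap.range L) (g (Pi.single i 1))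
  let φi : Fin n → (C →ₗ[B] B) := fun i => (LinearMap.proj i).comp (φ.comp (LinearMap.range L).mkQ)
  have hmem : ∀ z : C, r • z - ∑ i, φi i z • gl i ∈ LinearMap.range L := fun z => by
    rw [← Submodule.Quotient.mk_eq_zero, ← Submodule.mkQ_apply, map_sub, map_smul, map_sum]
    simp only [map_smul, hgl]
    rw [← hgφ, sub_eq_zero]
    conv_lhs => rw [pi_eq_sum_univ (φ ((LinearMap.range L).mkQ z)) ]
    rw [map_sum]
    refine Finset.sum_congr rfl fun i _ => ?_
    rw [map_smul]
    congr 2
    ext j
    rcases eq_or_ne i j with h | h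
    · subst h; simp
    · simp [h, Pi.single_eq_of_ne (Ne.symm h)]
  let eL : B ≃ₗ[B] LinearMap.range L := LinearEquiv.ofInjective L hinj
  let hh : C →ₗ[B] B := eL.symm.toLinearMap.comp
    (LinearMap.codRestrict (LinearMap.range L) (r • LinearMap.id - ∑ i, (φi i).smulRight (gl i))
      (fun z => by simpa [LinearMap.sum_apply] using hmem z))
  have hhh : ∀ z : C, algebraMap B C (hh z) = r • z - ∑ i, φi i z • gl i := fun z => by
    show L (eL.symm _) = _
    rw [show L (eL.symm _) = ((eL (eL.symm _) : LinearMap.range L) : C) from rfl, LinearEquiv.apply_symm_apply]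
    simp [LinearMap.sum_apply]
  let Φ : (C →ₗ[B] B) → (C ⊗[A] Ah →ₗ[A] B ⊗[A] Ah) := fun f => (f.restrictScalars A).rTensor Ah
  have hΦ : ∀ (f : C →ₗ[B] B) (b : B ⊗[A] Ah) (z : C ⊗[A] Ah), Φ f (ι b * z) = b * Φ f z := fun f b z => by
    induction z using TensorProduct.induction_on with
    | zero => simp
    | add u v hu hv => rw [mul_add, map_add, hu, hv, map_add, mul_add]
    | tmul c' a =>
      induction b using TensorProduct.induction_on with
      | zero => simp
      | add u v hu hv => rw [map_add, add_mul, map_add, hu, hv, add_mul]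
      | tmul b' a' =>
        simp only [Φ, ι, LinearMap.rTensor_tmul, LinearMap.coe_restrictScalars, Algebra.TensorProduct.map_tmul,
          Algebra.TensorProduct.tmul_mul_tmul, AlgHom.id_apply, IsScalarTower.coe_toAlgHom', one_mul, mul_one]
        rw [← Algebra.smul_def, map_smul, smul_eq_mul]
  have hdec : ∀ z : C ⊗[A] Ah, ι (r ⊗ₜ[A] (1 : Ah)) * z =
      ι (Φ hh z) + ∑ i, ι (Φ (φi i) z) * (gl i ⊗ₜ[A] (1 : Ah)) := fun z => by
    induction z using TensorProduct.induction_on with
    | zero => simp
    | add u v hu hv =>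
      simp only [map_add, mul_add, hu, hv, add_mul, Finset.sum_add_distrib]
      abel
    | tmul c' a =>
      simp only [Φ, ι, LinearMap.rTensor_tmul, LinearMap.coe_restrictScalars, Algebra.TensorProduct.map_tmul,
        Algebra.TensorProduct.tmul_mul_tmul, AlgHom.id_apply, IsScalarTower.coe_toAlgHom', one_mul, mul_one]
      rw [hhh, TensorProduct.sub_tmul, TensorProduct.sum_tmul, ← Algebra.smul_def]
      simp only [← Algebra.smul_def]
      abel
  have hΦ0 : ∀ i, Φ (φi i) c = 0 := fun i => by
    refine (mem_nonZeroDivisors_iff_left.1 hs) _ ?_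
    rw [← hΦ, ← hc, ← mul_one (ι x), hΦ, show (1 : C ⊗[A] Ah) = (1 : C) ⊗ₜ[A] (1 : Ah) from rfl]
    show x * ((φi i 1) ⊗ₜ[A] (1 : Ah)) = 0
    have h1 : φi i 1 = 0 := by
      show φ ((LinearMap.range L).mkQ 1) i = 0
      rw [show (LinearMap.range L).mkQ 1 = 0 from
        (Submodule.Quotient.mk_eq_zero _).2 ⟨1, map_one (algebraMap B C)⟩, map_zero]
      rfl
    rw [h1, TensorProduct.zero_tmul, mul_zero]
  let R₁ : B ⊗[A] Ah := r ⊗ₜ[A] 1
  have hrc : ι R₁ * c = ι (Φ hh c) := by
    rw [hdec]; simp [hΦ0]
  -- the multiples of `r`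
  let α : (B × C) →ₗ[B] C := L.coprod (-(r • LinearMap.id))
  let K := LinearMap.ker α
  have hk : ∀ z : K, ∃ b, (z : B × C).1 = r * b := fun z => by
    have h0 : algebraMap B C (z : B × C).1 = r • (z : B × C).2 := by
      have h := z.2
      simp only [K, α, LinearMap.mem_ker, LinearMap.coprod_apply] at h
      simpa [L, ← sub_eq_add_neg, sub_eq_zero] using h
    obtain ⟨P, hP, hPz⟩ := Algebra.IsIntegral.isIntegral (R := B) (z : B × C).2
    refine exists_eq_mul_of_rel hB _ r P.natDegree (fun i => P.coeff i) (hinj ?_)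
    rw [map_zero, map_add, map_pow, map_sum]
    simp only [map_mul, map_pow, h0, Algebra.smul_def]
    have h2 := congrArg (algebraMap B C r ^ P.natDegree * ·) hPz
    simp only [mul_zero, Polynomial.eval₂_eq_sum_range, Finset.sum_range_succ, hP.coeff_natDegree, map_one,
      one_mul, mul_add, Finset.mul_sum] at h2
    rw [← h2, add_comm]
    congr 1
    · refine Finset.sum_congr rfl fun i hi => ?_
      rw [show algebraMap B C r ^ P.natDegree = algebraMap B C r ^ i * algebraMap B C r ^ (P.natDegree - i) by
        rw [← pow_add, Nat.add_sub_cancel' (Finset.mem_range.1 hi).le]]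
      ring
    · ring
  choose k hk using hk
  have hrinj : Function.Injective fun b : B => r * b := fun u v h =>
    sub_eq_zero.1 ((mem_nonZeroDivisors_iff_left.1 hr) _ (by rw [mul_sub, sub_eq_zero]; exact h))
  let kl : K →ₗ[B] B :=
    { toFun := k
      map_add' := fun u v => hrinj (by
        show r * k (u + v) = r * (k u + k v)
        rw [mul_add, ← hk, ← hk, ← hk]; rfl)
      map_smul' := fun b u => hrinj (by
        show r * k (b • u) = r * (b * k u)
        rw [mul_left_comm, ← hk, ← hk]; rfl) }
  have hexact := Module.Flat.rTensor_exact (M := Ah)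
    (f := (K.subtype.restrictScalars A)) (g := α.restrictScalars A) (fun y => by
      refine ⟨fun hy => ⟨⟨y, hy⟩, rfl⟩, ?_⟩
      rintro ⟨w, rfl⟩
      exact w.2)
  let bc : (B × C) ⊗[A] Ah := ((LinearMap.inl B B C).restrictScalars A).rTensor Ah (Φ hh c) +
    ((LinearMap.inr B B C).restrictScalars A).rTensor Ah c
  have hbc : (α.restrictScalars A).rTensor Ah bc = 0 := by
    simp only [bc, map_add, ← LinearMap.rTensor_comp_apply]
    rw [← sub_eq_zero.2 hrc.symm, sub_eq_add_neg]
    congr 1
    · have e : (α.restrictScalars A).comp ((LinearMap.inl B B C).restrictScalars A) =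
          (IsScalarTower.toAlgHom A B C).toLinearMap := LinearMap.ext fun b => by simp [α, L]
      rw [e]; rfl
    · have e : (α.restrictScalars A).comp ((LinearMap.inr B B C).restrictScalars A) =
          -((r • (LinearMap.id : C →ₗ[B] C)).restrictScalars A) := LinearMap.ext fun z => by simp [α, L]
      rw [e, LinearMap.rTensor_neg, LinearMap.neg_apply, neg_inj]
      clear hrc hΦ0 hc
      induction c using TensorProduct.induction_on with
      | zero => simp
      | add u v hu hv => rw [map_add, hu, hv, mul_add]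
      | tmul c' a =>
        simp only [R₁, ι, LinearMap.rTensor_tmul, LinearMap.coe_restrictScalars, Algebra.TensorProduct.map_tmul,
          Algebra.TensorProduct.tmul_mul_tmul, AlgHom.id_apply, IsScalarTower.coe_toAlgHom', one_mul,
          LinearMap.smul_apply, LinearMap.id_apply]
        rw [Algebra.smul_def]
  obtain ⟨w, hw⟩ := (hexact bc).1 hbc
  have hb : Φ hh c = R₁ * (kl.restrictScalars A).rTensor Ah w := by
    have h := congrArg (((LinearMap.fst B B C).restrictScalars A).rTensor Ah) hw
    have e1 : ((LinearMap.fst B B C).restrictScalars A).rTensor Ah bc = Φ hh c := by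
      simp only [bc, map_add, ← LinearMap.rTensor_comp_apply]
      rw [show ((LinearMap.fst B B C).restrictScalars A).comp ((LinearMap.inl B B C).restrictScalars A) =
          LinearMap.id from LinearMap.ext fun b => rfl,
        show ((LinearMap.fst B B C).restrictScalars A).comp ((LinearMap.inr B B C).restrictScalars A) = 0 from
          LinearMap.ext fun b => rfl]
      simp
    rw [e1] at h
    rw [← h]
    clear h hw
    induction w using TensorProduct.induction_on with
    | zero => simp
    | add u v hu hv => simp only [map_add, hu, hv, mul_add]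
    | tmul z a =>
      simp only [R₁, LinearMap.rTensor_tmul, LinearMap.coe_restrictScalars,
        Algebra.TensorProduct.tmul_mul_tmul, one_mul]
      show (z : B × C).1 ⊗ₜ[A] a = (r * k z) ⊗ₜ[A] a
      rw [hk]
  refine ⟨(kl.restrictScalars A).rTensor Ah w, ?_⟩
  have hR₁ : Function.Injective fun b : B ⊗[A] Ah => R₁ * b := fun u v h => by
    refine Module.Flat.rTensor_preserves_injective_linearMap (M := Ah) (LinearMap.mulLeft A r) hrinj ?_
    have e : ∀ z : B ⊗[A] Ah, (LinearMap.mulLeft A r).rTensor Ah z = R₁ * z := fun z => by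
      induction z using TensorProduct.induction_on with
      | zero => simp
      | add u v hu hv => rw [map_add, hu, hv, mul_add]
      | tmul b a =>
        simp only [R₁, LinearMap.rTensor_tmul, LinearMap.mulLeft_apply, Algebra.TensorProduct.tmul_mul_tmul, one_mul]
    rw [e, e]; exact h
  refine hR₁ (hι ?_)
  show ι (R₁ * x) = ι (R₁ * (s * _))
  rw [mul_left_comm R₁ s, ← hb, map_mul, map_mul, ← hrc, hc]
  ring

end Descent

end Groth.Agent.ResRes
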